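import Groth.Agent.Krr.H471.ChartVan
import Groth.Agent.Krr.H482.PullTens
import Groth.Agent.Sga67.TensorOps

/-!
# Negative powers of `O(1)` on a morphism with charts `P^r_A`

`W N k = N^{⊗ k}` where `N` is an inverse of `O1`: it becomes `O(-k)` on the charts on which `O1` becomes `O(1)`.
-/

set_option autoImplicit false

universe u

open CategoryTheory CategoryTheory.Limits AlgebraicGeometry

namespace Groth.Agent.Krr.H471.ChartTwist

open Groth.Agent.Krr.H471.ChartVan Groth.Agent.Krr.H482.PullTens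

variable {P S : Scheme.{u}} {r : ℕ} {π : P ⟶ S}

/-- Powers `N ⊗ (N ⊗ ⋯)`. -/
noncomputable def W (N : P.Modules) : ℕ → P.Modules
  | 0 => Coh.structureModule P
  | k + 1 => ((DCoh.tensorBi (X := P)).obj N).obj (W N k)

theorem isFinLocFree_W {N : P.Modules} (hN : FlatMod.IsFinLocFree N) (k : ℕ) :
    FlatMod.IsFinLocFree (W N k) := by
  induction k with
  | zero => exact Sga67.TensorOps.isFinLocFree_structureModule
  | succ k ih => exact Sga67.LocBasis.isFinLocFree_tensorMod hN ih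

theorem nonempty_chart_neg_one (C : Chart r π) {O1 N : P.Modules}
    (e : (Scheme.Modules.pullback C.c).obj O1 ≅ Twist.twistProjSpace r C.A 1)
    (i : ((DCoh.tensorBi (X := P)).obj O1).obj N ≅ Coh.structureModule P) :
    Nonempty ((Scheme.Modules.pullback C.c).obj N ≅ Twist.twistProjSpace r C.A (-1)) := by
  let M := (Scheme.Modules.pullback C.c).obj N
  have e1 : (Sga67.TwistProj.tA r C.A 1).obj M ≅ Coh.structureModule (CohB1.ProjSpace r C.A) :=
    Ega2.Tens.mapTIso e.symm (Iso.refl M) ≪≫ (pullTensorIso C.c O1 N).symm ≪≫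
      (Scheme.Modules.pullback C.c).mapIso i ≪≫ pullUnitIso C.c
  obtain ⟨e2⟩ := Sga67.TwistProj.nonempty_tA_tA r C.A (-1) 1 0 (by norm_num) M
  obtain ⟨e3⟩ := Sga67.TwistProj.nonempty_tA_zero r C.A M
  exact ⟨e3.symm ≪≫ e2.symm ≪≫ (Sga67.TwistProj.tA r C.A (-1)).mapIso e1 ≪≫
    Ega2.Tens.runit (Twist.twistProjSpace r C.A (-1))⟩

theorem nonempty_chart_W (C : Chart r π) {N : P.Modules}
    (e : (Scheme.Modules.pullback C.c).obj N ≅ Twist.twistProjSpace r C.A (-1)) (k : ℕ) :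
    Nonempty ((Scheme.Modules.pullback C.c).obj (W N k) ≅ Twist.twistProjSpace r C.A (-(k : ℤ))) := by
  induction k with
  | zero =>
    obtain ⟨e1⟩ := Ega2.TwistInv.nonempty_unit_iso (CohB1.polyGrading r C.A)
    exact ⟨pullUnitIso C.c ≪≫ e1⟩
  | succ k ih =>
    obtain ⟨e1⟩ := ih
    obtain ⟨e2⟩ := Sga67.TwistProj.nonempty_mul r C.A (-1) (-(k : ℤ))
    have h : (-1 : ℤ) + -(k : ℤ) = -((k + 1 : ℕ) : ℤ) := by push_cast; ring
    rw [h] at e2
    exact ⟨pullTensorIso C.c N (W N k) ≪≫ Ega2.Tens.mapTIso e e1 ≪≫ e2⟩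

/-- If `O1` becomes `O(1)` on charts then `N^{⊗ k}` becomes `O(-k)` on charts, `N` an inverse of `O1`. -/
theorem isTwist_W {O1 N : P.Modules} (h : IsTwist r π O1 1)
    (i : ((DCoh.tensorBi (X := P)).obj O1).obj N ≅ Coh.structureModule P) (k : ℕ) :
    IsTwist r π (W N k) (-(k : ℤ)) := by
  intro x
  obtain ⟨C, hx, ⟨e⟩⟩ := h x
  obtain ⟨e'⟩ := nonempty_chart_neg_one C e i
  exact ⟨C, hx, nonempty_chart_W C e' k⟩

end Groth.Agent.Krr.H471.ChartTwist
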