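import Groth.Agent.Krr.H471.ChartVan
import Groth.Agent.Sga67.PushTwistD

/-!
# `O_S = π_* O_P` for a morphism with charts `P^r_A`
-/

set_option autoImplicit false

universe u

open CategoryTheory CategoryTheory.Limits AlgebraicGeometry

namespace Groth.Agent.Krr.H471.ChartUnit

open Groth.Agent.Krr.H471.ChartVan
open Groth.Agent.Fdesc.LocGen (pullSec res ores IsGen pullSec_smul res_pullSec)
open Groth.Agent.VarietyB.TensLoc (IsBasis)
open Groth.Agent.VarietyB.TensCoh (HasBases)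
open Groth.Agent.VarietyB.PullLoc (isBasis_pullSec)

variable {P S : Scheme.{u}}

/-- `Γ(W, O) = Γ(P^r_W, O)` for `W` affine open in `Spec A`. -/
theorem toSpec_app_bijective (r : ℕ) (A : Type u) [CommRing A] (W : (Spec (CommRingCat.of A)).Opens)
    (hW : IsAffineOpen W) : Function.Bijective ((CohB1.ProjSpace.toSpec r A).app W) := by
  have h0 : (CohqB.ProjBC.projSpaceOverIso r A).inv ≫ CohB1.ProjSpaceOver.toBase r (Spec (CommRingCat.of A)) =
    CohB1.ProjSpace.toSpec r A := CohqB.ProjBC.projSpaceOverIso_inv_toBase r A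
  have h1 := Sga67.PushTwist.toBase_app_bijective r (Spec (CommRingCat.of A)) W hW
  rw [← h0, Scheme.Hom.comp_app]
  have h2 : IsIso ((CohqB.ProjBC.projSpaceOverIso r A).inv.app
      (CohB1.ProjSpaceOver.toBase r (Spec (CommRingCat.of A)) ⁻¹ᵁ W)) := inferInstance
  have h3 := (ConcreteCategory.isIso_iff_bijective _).1 h2
  exact h3.comp h1

variable {r : ℕ} {π : P ⟶ S}

theorem Chart_app_bijective (C : Chart r π) (W : S.Opens) (hW : IsAffineOpen W)
    (hWC : W ≤ C.h.opensRange) : Function.Bijective (π.app W) := by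
  have h1 : IsIso (C.h.app W) := C.h.isIso_app W hWC
  have h2 : π ⁻¹ᵁ W ≤ C.c.opensRange := by
    have h3 := C.image_top
    rw [Scheme.Hom.image_top_eq_opensRange] at h3
    rw [← h3]
    exact π.preimage_mono hWC
  have h4 : IsIso (C.c.app (π ⁻¹ᵁ W)) := C.c.isIso_app _ h2
  have hW' : IsAffineOpen (C.h ⁻¹ᵁ W) := hW.preimage_of_isOpenImmersion C.h hWC
  have h5 : IsIso ((CohB1.ProjSpace.toSpec r C.A).app (C.h ⁻¹ᵁ W)) :=
    (ConcreteCategory.isIso_iff_bijective _).2 (toSpec_app_bijective r C.A _ hW')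
  have h6 : IsIso ((C.c ≫ π).app W) := by
    rw [Scheme.Hom.congr_app C.isPullback.w W, Scheme.Hom.comp_app]
    exact @IsIso.comp_isIso _ _ _ _ _ _ _ (@IsIso.comp_isIso _ _ _ _ _ _ _ h1 h5) inferInstance
  rw [Scheme.Hom.comp_app] at h6
  have h7 : IsIso (π.app W) := @IsIso.of_isIso_comp_right _ _ _ _ _ _ (C.c.app (π ⁻¹ᵁ W)) h4 h6
  exact (ConcreteCategory.isIso_iff_bijective _).1 h7

/-- `E ≅ f_* f^* E` for `E` locally free if `O_Y = f_* O_X` on small affine opens. -/
theorem isIso_unit_of_local {X Y : Scheme.{u}} (f : X ⟶ Y)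
    (hf : ∀ y : Y, ∃ V : Y.Opens, y ∈ V ∧ ∀ W : Y.Opens, IsAffineOpen W → W ≤ V →
      Function.Bijective (f.app W)) {E : Y.Modules}
    (hE : HasBases E) : IsIso ((Scheme.Modules.pullbackPushforwardAdjunction f).unit.app E) := by
  refine Sga67.LocBasis.isIso_of_bijective _ fun x U hx => ?_
  obtain ⟨V₀, hxV₀, hV₀⟩ := hf x
  obtain ⟨n, U', hx', e, he⟩ := hE x
  obtain ⟨_, ⟨V, hV, rfl⟩, hxV, hVU⟩ := Y.isBasis_affineOpens.exists_subset_of_mem_open
    (show x ∈ ((U ⊓ U' ⊓ V₀ : Y.Opens) : Set Y) from ⟨⟨hx, hx'⟩, hxV₀⟩) (U ⊓ U' ⊓ V₀).isOpen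
  have hVU' : V ≤ U' := fun y hy => (hVU hy).1.2
  refine ⟨V, fun y hy => (hVU hy).1.1, hxV, ?_⟩
  have h1 := he V hVU'
  have h2 := isBasis_pullSec f he (f ⁻¹ᵁ V) (f.preimage_mono hVU')
  have h3 : Function.Bijective (fun (a : Fin n → Γ(Y, V)) (i : Fin n) => f.app V (a i)) :=
    Function.Bijective.piMap fun _ => hV₀ V hV fun y hy => (hVU hy).2
  have h4 : (fun m : Γ(E, V) => pullSec f m) ∘
      (fun a : Fin n → Γ(Y, V) => ∑ i, a i • Groth.Agent.VarietyB.TensLoc.res E hVU' (e i)) =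
      (fun a : Fin n → Γ(X, f ⁻¹ᵁ V) => ∑ i, a i •
        Groth.Agent.VarietyB.TensLoc.res ((Scheme.Modules.pullback f).obj E) (f.preimage_mono hVU')
          (pullSec f (e i))) ∘
      (fun (a : Fin n → Γ(Y, V)) (i : Fin n) => f.app V (a i)) := by
    funext a
    refine (map_sum (((Scheme.Modules.pullbackPushforwardAdjunction f).unit.app E).app V).hom _ _).trans ?_
    refine Finset.sum_congr rfl fun i _ => ?_
    refine (pullSec_smul f (a i) _).trans ?_
    congr 1
    exact (res_pullSec f hVU' (e i)).symm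
  have h5 := h2.comp h3
  rw [← h4] at h5
  exact (Function.Bijective.of_comp_iff _ h1).mp h5

/-- `E ≅ π_* π^* E` for a morphism with charts `P^r_A` and `E` finite locally free. -/
theorem isIso_unit (hπ : ∀ x : S, ∃ C : Chart r π, x ∈ Set.range C.h) {E : S.Modules}
    (hE : FlatMod.IsFinLocFree E) :
    IsIso ((Scheme.Modules.pullbackPushforwardAdjunction π).unit.app E) := by
  refine isIso_unit_of_local π (fun x => ?_) (HasBases.of_isFinLocFree hE)
  obtain ⟨C, hx⟩ := hπ x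
  exact ⟨C.h.opensRange, hx, fun W hW hWC => Chart_app_bijective C W hW hWC⟩

end Groth.Agent.Krr.H471.ChartUnit
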