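import Groth.Agent.Sga67.TwistProj
import Groth.Agent.Sga67.LocBasisOps
import Groth.Agent.CohqB.RelVan
import Groth.Agent.CohqA.HOpen
import Groth.Agent.PerfC.TensRestr
import Groth.Agent.PerfA.QCohEpi
import Groth.Agent.VarietyB.ProjSpaceProper

/-!
# Direct images along a morphism with charts `P^r_A`

`π : P ⟶ S` has around every point `x : S` a chart: an open immersion `h : Spec A ⟶ S` around `x` and a cartesian
square `c : P^r_A ⟶ P` over it.  If `N` restricts to `O(j)` on the charts and `G` is finite locally free on `S` then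
`R^q π_* (N ⊗ π^* G) = 0` in the range given by the cohomology of `P^r_A`; moreover `O_S = π_* O_P`.
-/

set_option autoImplicit false

universe u

open CategoryTheory CategoryTheory.Limits AlgebraicGeometry

namespace Groth.Agent.Krr.H471.ChartVan

variable {P S : Scheme.{u}}

/-- A chart of `π : P ⟶ S` by a projective space `P^r_A`. -/
structure Chart (r : ℕ) (π : P ⟶ S) where
  /-- the ring -/
  A : Type u
  [commRing : CommRing A]
  /-- the open immersion into the base -/
  h : Spec (CommRingCat.of A) ⟶ S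
  [isOpenImmersion : IsOpenImmersion h]
  /-- the chart -/
  c : CohB1.ProjSpace r A ⟶ P
  isPullback : IsPullback c (CohB1.ProjSpace.toSpec r A) π h

attribute [instance] Chart.commRing Chart.isOpenImmersion

variable {r : ℕ} {π : P ⟶ S}

instance (C : Chart r π) : IsOpenImmersion C.c :=
  MorphismProperty.of_isPullback (P := @IsOpenImmersion) C.isPullback.flip inferInstance

/-- The image of the chart is the inverse image of the image of `h`. -/
theorem Chart.image_top (C : Chart r π) : π ⁻¹ᵁ C.h.opensRange = C.c ''ᵁ ⊤ := by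
  ext p
  constructor
  · intro hp
    obtain ⟨y, hy⟩ : ∃ y, C.h y = π p := hp
    let q := C.isPullback.isoPullback
    obtain ⟨z, hz, -⟩ := Scheme.Pullback.exists_preimage_pullback (f := π) (g := C.h) p y hy.symm
    refine ⟨q.inv z, trivial, ?_⟩
    have h1 : q.inv ≫ C.c = pullback.fst π C.h := C.isPullback.isoPullback_inv_fst
    rw [← hz, ← h1]
    rfl
  · rintro ⟨z, -, rfl⟩
    refine ⟨CohB1.ProjSpace.toSpec r C.A z, ?_⟩
    have h1 := C.isPullback.w
    exact congr($h1.symm z)

/-- The restriction of `N ⊗ π^* G` to a chart on which `N` becomes `O(j)`. -/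
noncomputable def Chart.restrictIso (C : Chart r π) {N : P.Modules} {j : ℤ}
    (e : (Scheme.Modules.pullback C.c).obj N ≅ Twist.twistProjSpace r C.A j) (G : S.Modules) :
    ((((DCoh.tensorBi (X := P)).obj N).obj ((Scheme.Modules.pullback π).obj G)).restrict C.c) ≅
      (Sga67.TwistProj.tA r C.A j).obj ((Scheme.Modules.pullback (CohB1.ProjSpace.toSpec r C.A)).obj
        ((Scheme.Modules.pullback C.h).obj G)) :=
  (PerfC.TensRestr.resIso C.c N _).symm ≪≫
    Ega2.Tens.mapTIso ((Scheme.Modules.restrictFunctorIsoPullback C.c).app _ ≪≫ e)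
      ((Scheme.Modules.restrictFunctorIsoPullback C.c).app _ ≪≫
        (Scheme.Modules.pullbackComp C.c π).app G ≪≫
        (Scheme.Modules.pullbackCongr C.isPullback.w).app G ≪≫
        ((Scheme.Modules.pullbackComp (CohB1.ProjSpace.toSpec r C.A) C.h).app G).symm)

theorem Chart.subsingleton_HH (C : Chart r π) {N : P.Modules} {j : ℤ}
    (e : (Scheme.Modules.pullback C.c).obj N ≅ Twist.twistProjSpace r C.A j) {G : S.Modules}
    (hG : FlatMod.IsFinLocFree G) (q : ℕ)
    (hq : (1 ≤ q ∧ -(r : ℤ) ≤ j) ∨ (-(r : ℤ) ≤ j ∧ j ≤ -1)) :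
    Subsingleton (Coh.HH (π ⁻¹ᵁ C.h.opensRange).toScheme
      ((((DCoh.tensorBi (X := P)).obj N).obj ((Scheme.Modules.pullback π).obj G)).restrict
        (π ⁻¹ᵁ C.h.opensRange).ι) q) := by
  set M := ((DCoh.tensorBi (X := P)).obj N).obj ((Scheme.Modules.pullback π).obj G) with hM
  have hG' : FlatMod.IsFinLocFree ((Scheme.Modules.pullback C.h).obj G) :=
    PerfB.FlatPull.isFinLocFree_pullback C.h hG
  have h1 : Subsingleton (Coh.HH (CohB1.ProjSpace r C.A) (M.restrict C.c) q) := by
    refine Fga.HShift.subsingleton_of_iso (C.restrictIso e G).symm q ?_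
    rcases hq with ⟨h1, h2⟩ | ⟨h1, h2⟩
    · exact Sga67.TwistProj.hh_pullback_pos _ hG' j h2 q h1
    · exact Sga67.TwistProj.hh_pullback_neg _ hG' j h1 h2 q
  have e1 := CohqA.HOpen.HHEquiv C.c M (π ⁻¹ᵁ C.h.opensRange) C.image_top q
  have e2 := CohqA.HOpen.HHonEquiv M (π ⁻¹ᵁ C.h.opensRange) q
  have h2 := e1.toEquiv.subsingleton
  exact e2.symm.toEquiv.subsingleton

/-- `N` becomes `O(j)` on charts around every point. -/
def IsTwist (r : ℕ) (π : P ⟶ S) (N : P.Modules) (j : ℤ) : Prop :=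
  ∀ x : S, ∃ C : Chart r π, x ∈ Set.range C.h ∧
    Nonempty ((Scheme.Modules.pullback C.c).obj N ≅ Twist.twistProjSpace r C.A j)

/-- `R^q π_* (N ⊗ π^* G) = 0` for `N` locally `O(j)` and (`q ≥ 1`, `j ≥ -r`) or (`-r ≤ j ≤ -1`). -/
theorem isZero_Rpush [QuasiCompact π] [QuasiSeparated π] {N : P.Modules} {j : ℤ} (hN : IsTwist r π N j)
    (hNf : FlatMod.IsFinLocFree N) {G : S.Modules} (hG : FlatMod.IsFinLocFree G) (q : ℕ)
    (hq : (1 ≤ q ∧ -(r : ℤ) ≤ j) ∨ (-(r : ℤ) ≤ j ∧ j ≤ -1)) :
    IsZero ((Coh.Rpush π q).obj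
      (((DCoh.tensorBi (X := P)).obj N).obj ((Scheme.Modules.pullback π).obj G))) := by
  have hM : Coh.IsQCoh (((DCoh.tensorBi (X := P)).obj N).obj ((Scheme.Modules.pullback π).obj G)) :=
    PerfA.QCohEpi.isQCoh_of_isFinLocFree
      (Sga67.LocBasis.isFinLocFree_tensorMod hNf (PerfB.FlatPull.isFinLocFree_pullback π hG))
  refine CohqB.RelVan.isZero_Rpush_of_cover π _ hM q fun x => ?_
  obtain ⟨C, hx, ⟨e⟩⟩ := hN x
  exact ⟨C.h.opensRange, hx, isAffineOpen_opensRange C.h, C.subsingleton_HH e hG q hq⟩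

end Groth.Agent.Krr.H471.ChartVan
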