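import Groth.Agent.Krr.H471.ChartTwist
import Groth.Agent.Ega3B.PullTensor

/-!
# `R^p π_* O1^{⊗ n} = 0` for `p ≥ 1`, `n ≥ 0`, when `π` has charts `P^r_A` on which `O1` becomes `O(1)`
-/

set_option autoImplicit false

universe u

open CategoryTheory CategoryTheory.Limits AlgebraicGeometry

namespace Groth.Agent.Krr.H471.HVan

open Groth.Agent.Krr.H471.ChartVan Groth.Agent.Krr.H482.PullTens

variable {P S : Scheme.{u}} {r : ℕ} {π : P ⟶ S}

theorem nonempty_chart_tensorPow (C : Chart r π) {O1 : P.Modules}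
    (e : (Scheme.Modules.pullback C.c).obj O1 ≅ Twist.twistProjSpace r C.A 1) (n : ℕ) :
    Nonempty ((Scheme.Modules.pullback C.c).obj (CohB1.tensorPow O1 n) ≅
      Twist.twistProjSpace r C.A (n : ℤ)) := by
  induction n with
  | zero =>
    obtain ⟨e1⟩ := Ega2.TwistInv.nonempty_unit_iso (CohB1.polyGrading r C.A)
    exact ⟨pullUnitIso C.c ≪≫ e1⟩
  | succ k ih =>
    obtain ⟨e1⟩ := ih
    obtain ⟨e2⟩ := Sga67.TwistProj.nonempty_mul r C.A (k : ℤ) 1
    have h : (k : ℤ) + 1 = ((k + 1 : ℕ) : ℤ) := by push_cast; ring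
    rw [h] at e2
    exact ⟨pullTensorIso C.c (CohB1.tensorPow O1 k) O1 ≪≫ Ega2.Tens.mapTIso e1 e ≪≫ e2⟩

/-- If `O1` becomes `O(1)` on charts then `O1^{⊗ n}` becomes `O(n)`. -/
theorem isTwist_tensorPow {O1 : P.Modules} (h : IsTwist r π O1 1) (n : ℕ) :
    IsTwist r π (CohB1.tensorPow O1 n) (n : ℤ) := by
  intro x
  obtain ⟨C, hx, ⟨e⟩⟩ := h x
  exact ⟨C, hx, nonempty_chart_tensorPow C e n⟩

/-- `R^p π_* O1^{⊗ n} = 0` for `p ≥ 1`. -/
theorem isZero_Rpush_tensorPow [QuasiCompact π] [QuasiSeparated π] {O1 : P.Modules}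
    (hO1 : PicF.IsInvertible O1) (h : IsTwist r π O1 1) (n p : ℕ) (hp : 1 ≤ p) :
    IsZero ((Coh.Rpush π p).obj (CohB1.tensorPow O1 n)) := by
  have h1 : PicF.IsInvertible (CohB1.tensorPow O1 n) := Fdesc.LocGen.isInvertible_tensorPow hO1 n
  have h2 : FlatMod.IsFinLocFree (CohB1.tensorPow O1 n) :=
    Ega2.QCohLocal.isFinLocFree_of_rank (Ega2.QCohLocal.isFinLocFreeOfRank_one_iff.2 h1)
  have h3 := ChartVan.isZero_Rpush (isTwist_tensorPow h n) h2
    (Sga67.TensorOps.isFinLocFree_structureModule (X := S)) p (Or.inl ⟨hp, by omega⟩)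
  exact h3.of_iso ((Coh.Rpush π p).mapIso
    (Ega2.Tens.mapTIso (Iso.refl _) (pullUnitIso π) ≪≫ Ega2.Tens.runit _).symm)

/-- `R^p π_* (e^* L^{⊗ n}) = 0` (abelian sheaves) for `p ≥ 1` if `e^* L` becomes `O(1)` on the charts. -/
theorem isZero_RpushAb_pullback_tensorPow [QuasiCompact π] [QuasiSeparated π] {Y₁ : Scheme.{u}}
    (e : P ⟶ Y₁) {L : Y₁.Modules} (hL : PicF.IsInvertible L)
    (h : IsTwist r π ((Scheme.Modules.pullback e).obj L) 1) (n p : ℕ) (hp : 1 ≤ p) :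
    IsZero ((Coh.RpushAb π p).obj
      (Coh.toAb ((Scheme.Modules.pullback e).obj (CohB1.tensorPow L n)))) := by
  obtain ⟨i⟩ := Ega3B.PullTensor.nonempty_pullPowIso e hL n
  have hL' : PicF.IsInvertible ((Scheme.Modules.pullback e).obj L) :=
    Fdesc.LocGen.isInvertible_pullback e hL
  exact (Ega3B.RpushAbCmp.isZero_RpushAb_iff π _ p).2
    ((isZero_Rpush_tensorPow hL' h n p hp).of_iso ((Coh.Rpush π p).mapIso i))

end Groth.Agent.Krr.H471.HVan
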