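import Mathlib.Algebra.BigOperators.Fin
import Mathlib.Algebra.Ring.Hom.Defs
import Mathlib.Algebra.BigOperators.Ring.Finset
import Mathlib.Tactic.LinearCombination
import Mathlib.Tactic.Ring

/-!
# Independence of the powers of `ℓ` from a push-forward
-/

set_option autoImplicit false

namespace Groth.Agent.Krr.H471.IndepAlg

/-- If `θ : K → A` additive satisfies `θ(g x) = ρ x` with `ρ` injective and `θ (g x · ℓ^{-k}) = 0` for `1 ≤ k ≤ r` then
`1, ℓ, …, ℓ^r` are independent over `R`. -/
theorem injective_sum {R K A : Type*} [CommRing R] [CommRing K] [AddCommGroup A] (g : R →+* K) (l m : K)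
    (hlm : l * m = 1) (r : ℕ) (θ : K →+ A) (ρ : R →+ A) (hρ : Function.Injective ρ)
    (h0 : ∀ x : R, θ (g x) = ρ x)
    (hneg : ∀ k : ℕ, 1 ≤ k → k ≤ r → ∀ x : R, θ (g x * m ^ k) = 0) :
    Function.Injective (fun a : Fin (r + 1) → R => ∑ i : Fin (r + 1), g (a i) * l ^ (i : ℕ)) := by
  have key : ∀ a : Fin (r + 1) → R, ∑ i : Fin (r + 1), g (a i) * l ^ (i : ℕ) = 0 →
      ∀ (n : ℕ) (i : Fin (r + 1)), r - n ≤ (i : ℕ) → a i = 0 := by
    intro a ha n
    induction n with
    | zero =>
      intro i hi
      have hik : (i : ℕ) = r := by have := i.2; omega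
      have h1 : θ ((∑ j : Fin (r + 1), g (a j) * l ^ (j : ℕ)) * m ^ r) = 0 := by
        rw [ha, zero_mul, map_zero]
      rw [Finset.sum_mul, map_sum, Finset.sum_eq_single i] at h1
      · have h2 : g (a i) * l ^ (i : ℕ) * m ^ r = g (a i) := by
          rw [hik, mul_assoc, ← mul_pow, hlm, one_pow, mul_one]
        rw [h2, h0] at h1
        exact hρ (by rw [h1, map_zero])
      · intro j _ hj
        have hjr : (j : ℕ) < r := by
          have h3 := j.2
          have h4 : (j : ℕ) ≠ (i : ℕ) := fun h => hj (Fin.ext h)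
          omega
        have h5 : g (a j) * l ^ (j : ℕ) * m ^ r = g (a j) * m ^ (r - j) := by
          have : m ^ r = m ^ (j : ℕ) * m ^ (r - j) := by rw [← pow_add]; congr 1; omega
          rw [this]
          have h6 : l ^ (j : ℕ) * m ^ (j : ℕ) = 1 := by rw [← mul_pow, hlm, one_pow]
          linear_combination (g (a j) * m ^ (r - j)) * h6
        rw [h5]
        exact hneg _ (by omega) (by omega) _
      · intro h
        exact absurd (Finset.mem_univ i) h
    | succ n ih =>
      intro i hi
      by_cases hi' : r - n ≤ (i : ℕ)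
      · exact ih i hi'
      have hik : (i : ℕ) = r - (n + 1) := by omega
      have h1 : θ ((∑ j : Fin (r + 1), g (a j) * l ^ (j : ℕ)) * m ^ (i : ℕ)) = 0 := by
        rw [ha, zero_mul, map_zero]
      rw [Finset.sum_mul, map_sum, Finset.sum_eq_single i] at h1
      · have h2 : g (a i) * l ^ (i : ℕ) * m ^ (i : ℕ) = g (a i) := by
          rw [mul_assoc, ← mul_pow, hlm, one_pow, mul_one]
        rw [h2, h0] at h1
        exact hρ (by rw [h1, map_zero])
      · intro j _ hj
        by_cases hji : (j : ℕ) < (i : ℕ)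
        · have h5 : g (a j) * l ^ (j : ℕ) * m ^ (i : ℕ) = g (a j) * m ^ ((i : ℕ) - j) := by
            have : m ^ (i : ℕ) = m ^ (j : ℕ) * m ^ ((i : ℕ) - j) := by rw [← pow_add]; congr 1; omega
            rw [this]
            have h6 : l ^ (j : ℕ) * m ^ (j : ℕ) = 1 := by rw [← mul_pow, hlm, one_pow]
            linear_combination (g (a j) * m ^ ((i : ℕ) - j)) * h6
          rw [h5]
          exact hneg _ (by omega) (by have := i.2; omega) _
        · have h4 : (j : ℕ) ≠ (i : ℕ) := fun h => hj (Fin.ext h)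
          rw [ih j (by omega), map_zero, zero_mul, zero_mul, map_zero]
      · intro h
        exact absurd (Finset.mem_univ i) h
  intro a b hab
  have h : ∑ i : Fin (r + 1), g ((a - b) i) * l ^ (i : ℕ) = 0 := by
    have h1 : ∑ i : Fin (r + 1), g (a i) * l ^ (i : ℕ) = ∑ i : Fin (r + 1), g (b i) * l ^ (i : ℕ) := hab
    simp only [Pi.sub_apply, map_sub, sub_mul, Finset.sum_sub_distrib, h1, sub_self]
  funext i
  have := key _ h r i (by omega)
  exact sub_eq_zero.1 this

end Groth.Agent.Krr.H471.IndepAlg
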