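import Groth.Prelude.Def_KRR
import Groth.Agent.Krr.H472.AlgKRR
import Groth.Agent.Krr.H487.PullExt

/-!
# `λ_{-1}(ψ^K c - ℓ) · ψ^K x = 0` implies `x = 0` for a projective bundle
-/

set_option autoImplicit false

universe v u

open CategoryTheory CategoryTheory.Limits AlgebraicGeometry

namespace Groth.Agent.Krr.H471.LamInj

open KRR Groth.Agent.Krr.H482.PullLambda

variable {P S : Scheme.{u}} {π : P ⟶ S} {r : ℕ}
  {KP : Type v} [CommRing KP] [LambdaRing.LambdaOps KP] {PP : LambdaRing.PosStructure KP}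
  {φP : SGA6.Kvb P →+ KP} {KS : Type v} [CommRing KS] [LambdaRing.LambdaOps KS]
  {PS : LambdaRing.PosStructure KS} {φS : SGA6.Kvb S →+ KS}

/-- If `1, ℓ, …, ℓ^r` are independent over `K(S)`, `ℓ` the class of an invertible module and `c` the class of a
bundle of rank `r + 1`, then multiplication by `λ_{-1}(c - ℓ)` is injective on `K(S)`. -/
theorem eq_zero_of_lamAlt_mul {E : S.Modules} {O1 : P.Modules} {g : KS →+ KP}
    (hinj : Function.Injective (fun a : Fin (r + 1) → KS => ∑ i : Fin (r + 1), g (a i) * φP (cl P O1) ^ (i : ℕ)))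
    (hE : FlatMod.IsFinLocFreeOfRank (r + 1) E) (hO1 : FlatMod.IsFinLocFreeOfRank 1 O1)
    (hKP : IsModel P KP PP φP) (hKS : IsModel S KS PS φS) (hg : IsPull π φS φP g)
    (x : KS) (hx : lamAlt PP (g (φS (cl S E)) - φP (cl P O1)) * g x = 0) : x = 0 := by
  have hline : PP.IsLine (φP (cl P O1)) :=
    ⟨(hKP.mem_pos_iff _).2 ⟨1, O1, le_rfl, hO1, rfl⟩, hKP.aug_cl 1 O1 hO1⟩
  have haug : PP.aug (g (φS (cl S E)) - φP (cl P O1)) = ((r + 1 : ℕ) : ℤ) - 1 := by
    rw [map_sub, pull_aug hKP hKS hg, hKS.aug_cl (r + 1) E hE, hKP.aug_cl 1 O1 hO1]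
    push_cast
    ring
  refine Groth.Agent.Krr.H472.AlgKRR.eq_zero_of_lamAlt_mul (P₁ := PP) (ψ := pullRingHom hKP hKS hg)
    (c := φS (cl S E)) (l := φP (cl P O1)) (d := r + 1) (by omega) haug (fun i hi => ?_) (fun i => ?_) hinj x hx
  · exact PP.lam_eq_zero (φP (cl P O1)) hline.1 i (by rw [hline.2]; omega)
  · exact Groth.Agent.Krr.H487.PullExt.pull_lam hKP hKS hg i _

end Groth.Agent.Krr.H471.LamInj
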