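import Groth.Prelude.Def_KRR
import Groth.Agent.Krr.H471.ChartVan
import Groth.Agent.Krr.H484.PBCharts

/-!
# A projective bundle has charts `P^r_A` on which the universal quotient becomes `O(1)`
-/

set_option autoImplicit false

universe u

open CategoryTheory CategoryTheory.Limits AlgebraicGeometry

namespace Groth.Agent.Krr.H471.PBTwist

open Groth.Agent.Krr.H471.ChartVan

variable {P S : Scheme.{u}} {π : P ⟶ S} {r : ℕ}

/-- Charts of a projective bundle. -/
theorem isTwist_of_isProjBundle [CompactSpace ↥S] {E : S.Modules} (hE : FlatMod.IsFinLocFreeOfRank (r + 1) E)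
    {O1 : P.Modules} {q : (Scheme.Modules.pullback π).obj E ⟶ O1} (B : KRR.IsProjBundle π E O1 q) :
    IsTwist r π O1 1 := by
  obtain ⟨ι, -, A, hA, h, j, hh, hx, hj, hO⟩ := Groth.Agent.Krr.H484.PBCharts.exists_charts hE B
  intro x
  obtain ⟨i, hi⟩ := hx x
  have := hh i
  exact ⟨⟨A i, h i, j i, hj i⟩, hi, hO i⟩

theorem exists_chart {O1 : P.Modules} {j : ℤ} (h : IsTwist r π O1 j) (x : S) :
    ∃ C : Chart r π, x ∈ Set.range C.h := by
  obtain ⟨C, hx, -⟩ := h x
  exact ⟨C, hx⟩

/-- A closed subscheme of a Noetherian scheme is Noetherian. -/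
theorem isNoetherian_of_isClosedImmersion {X Y : Scheme.{u}} [IsNoetherian Y] (f : X ⟶ Y) [IsClosedImmersion f] :
    IsNoetherian X := by
  have h1 : IsLocallyNoetherian X := LocallyOfFiniteType.isLocallyNoetherian f
  have h2 : CompactSpace ↥X := QuasiCompact.compactSpace_of_compactSpace f
  exact { }

end Groth.Agent.Krr.H471.PBTwist
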