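import Groth.Prelude.Def_SGA6
import Groth.Agent.PerfC.RpushSingle
import Groth.Agent.PerfC.RpushTrunc
import Groth.Agent.Sga67.KTrBasic
import Mathlib.CategoryTheory.Abelian.RightDerived

/-!
# The push-forward `[E] ↦ [Rπ_* E]` from `K₀` of vector bundles to `K₀` of perfect complexes
-/

set_option autoImplicit false

universe u

open CategoryTheory CategoryTheory.Limits AlgebraicGeometry Pretriangulated
attribute [local instance] HasDerivedCategory.standard

namespace Groth.Agent.Krr.H471.PushPerf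

open Groth.Agent.PerfC Groth.Agent.Sga67

variable {P S : Scheme.{u}} (π : P ⟶ S) [DCoh.HasRpush π]

/-- `[E] ↦ [Rπ_* E]`, for `π` such that `Rπ_*` maps vector bundles to perfect complexes. -/
noncomputable def chi (hπ : ∀ E : P.Modules, FlatMod.IsFinLocFree E →
    DCoh.IsPerfect ((DCoh.Rpush π).obj (DCoh.inD P E))) : SGA6.Kvb P →+ SGA6.Kperf S :=
  KTrBasic.lift (P := fun M : P.Modules => FlatMod.IsFinLocFree M)
    (fun E : P.Modules => KZero.clTr (SGA6.perfP S) ((DCoh.Rpush π).obj (DCoh.inD P E)))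
    (fun T hT h₁ h₂ h₃ => by
      obtain ⟨w', hw'⟩ := RpushTrunc.exists_triangle π _ _ _ hT.singleTriangle_distinguished
      exact KTrBasic.clTr_add (P := SGA6.perfP S) _ hw' (hπ _ h₁) (hπ _ h₂) (hπ _ h₃))

theorem chi_cl (hπ : ∀ E : P.Modules, FlatMod.IsFinLocFree E →
    DCoh.IsPerfect ((DCoh.Rpush π).obj (DCoh.inD P E))) {E : P.Modules} (hE : FlatMod.IsFinLocFree E) :
    chi π hπ (KZero.clSub (fun M : P.Modules => FlatMod.IsFinLocFree M) E) =
      KZero.clTr (SGA6.perfP S) ((DCoh.Rpush π).obj (DCoh.inD P E)) :=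
  KTrBasic.lift_clSub _ _ E hE

/-- `R^0 f_* = f_*`. -/
noncomputable def rpushZero [HasInjectiveResolutions P.Modules] : Coh.Rpush π 0 ≅ Scheme.Modules.pushforward π :=
  haveI : PreservesFiniteLimits (Scheme.Modules.pushforward π) :=
    haveI := (Scheme.Modules.pullbackPushforwardAdjunction π).rightAdjoint_preservesLimits
    PreservesLimits.preservesFiniteLimits _
  (Scheme.Modules.pushforward π).rightDerivedZeroIsoSelf

/-- All `R^q π_* E` vanish: `Rπ_* E = 0`. -/
theorem isZero_Rpush_inD [HasInjectiveResolutions P.Modules] {E : P.Modules}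
    (h : ∀ q : ℕ, IsZero ((Coh.Rpush π q).obj E)) : IsZero ((DCoh.Rpush π).obj (DCoh.inD P E)) := by
  have h0 : ((DCoh.Rpush π).obj (DCoh.inD P E)).IsGE 0 := RpushTrunc.isGE_Rpush π (DCoh.inD P E) 0
  have h1 : ((DCoh.Rpush π).obj (DCoh.inD P E)).IsLE (-1) := by
    rw [DerivedCategory.isLE_iff]
    intro i hi
    obtain ⟨n, rfl⟩ := Int.eq_ofNat_of_zero_le (by omega : 0 ≤ i)
    exact (h n).of_iso (RpushSingle.iso π n E)
  exact DerivedCategory.TStructure.t.isZero _ (-1) 0 (by omega)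

/-- `R^q π_* E = 0` for `q ≥ 1`: `Rπ_* E = π_* E`. -/
theorem nonempty_Rpush_inD [HasInjectiveResolutions P.Modules] {E : P.Modules}
    (h : ∀ q : ℕ, 1 ≤ q → IsZero ((Coh.Rpush π q).obj E)) :
    Nonempty ((DCoh.Rpush π).obj (DCoh.inD P E) ≅
      DCoh.inD S ((Scheme.Modules.pushforward π).obj E)) := by
  have h0 : ((DCoh.Rpush π).obj (DCoh.inD P E)).IsGE 0 := RpushTrunc.isGE_Rpush π (DCoh.inD P E) 0
  have h1 : ((DCoh.Rpush π).obj (DCoh.inD P E)).IsLE 0 := by
    rw [DerivedCategory.isLE_iff]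
    intro i hi
    obtain ⟨n, rfl⟩ := Int.eq_ofNat_of_zero_le (by omega : 0 ≤ i)
    exact (h n (by omega)).of_iso (RpushSingle.iso π n E)
  obtain ⟨Y, ⟨e⟩⟩ := DerivedCategory.exists_iso_singleFunctor_obj_of_isGE_of_isLE
    ((DCoh.Rpush π).obj (DCoh.inD P E)) 0
  have e1 : DCoh.HD ((DCoh.Rpush π).obj (DCoh.inD P E)) 0 ≅ Y :=
    (DerivedCategory.homologyFunctor S.Modules 0).mapIso e ≪≫
      (DerivedCategory.singleFunctorCompHomologyFunctorIso S.Modules 0).app Y
  have e2 : Y ≅ (Scheme.Modules.pushforward π).obj E :=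
    e1.symm ≪≫ RpushSingle.iso π 0 E ≪≫ (rpushZero π).app E
  exact ⟨e ≪≫ (DerivedCategory.singleFunctor S.Modules 0).mapIso e2⟩

end Groth.Agent.Krr.H471.PushPerf
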